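import Groth.Agent.NeronIsog.FlatLQF
import Groth.Agent.NeronGen.Dense
import Groth.Agent.GeomProp.SmoothLocal
import Groth.Agent.S1454
import Groth.Agent.S9812
import Groth.Agent.GrpField.FlatPoint
import Groth.Agent.GrpField.Range
import Groth.Agent.FibreFlat.Scheme
import Groth.Agent.UnitUnram.Basic
import Groth.Agent.SmoothRed.Scheme
import Groth.Agent.AgIsog.Kernel
import Groth.Prelude.Def_Neron
import Groth.Prelude.Def_SGA7IX

/-!
# Homomorphisms of smooth groups over a Dedekind domain with isogeny as generic fibre
-/

set_option autoImplicit false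
set_option backward.isDefEq.respectTransparency false
set_option backward.isDefEq.respectTransparency.types false
set_option linter.style.haveILetI false
set_option synthInstance.maxHeartbeats 400000
set_option maxHeartbeats 1000000
universe u

open CategoryTheory CategoryTheory.Limits MonoidalCategory CartesianMonoidalCategory MonObj AlgebraicGeometry

namespace Groth.Agent.NeronIsog

/-- Local rings of schemes smooth over a Dedekind domain are geometrically unibranch. -/
theorem isGeomUnibranch_of_smooth {R : Type u} [CommRing R] [IsDedekindDomain R] {X : Scheme.{u}}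
    (f : X ⟶ Spec (CommRingCat.of R)) [Smooth f] (x : X) : CAlg2.IsGeomUnibranch (X.presheaf.stalk x) := by
  have hx : x ∈ f.smoothLocus := GeomProp.mem_smoothLocus_of_nhd f x ⟨⊤, trivial, inferInstance⟩
  obtain ⟨A, B, _, _, _, _, hA, q, _, eY, eX, -⟩ := GeomProp.exists_local_model f x hx
  haveI : IsNoetherianRing A := hA inferInstance
  let p := (f x).asIdeal
  let e : Localization.AtPrime (q.comap (algebraMap A B)) ≃+* Localization.AtPrime p :=
    eY.symm.trans (Spec.stalkIso (CommRingCat.of R) (f x)).commRingCatIsoToRingEquiv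
  haveI : IsDomain (Localization.AtPrime p) := IsLocalization.isDomain_of_atPrime _ p
  haveI : IsIntegrallyClosed (Localization.AtPrime p) :=
    isIntegrallyClosed_of_isLocalization _ p.primeCompl p.primeCompl_le_nonZeroDivisors
  haveI : IsDomain (Localization.AtPrime (q.comap (algebraMap A B))) := e.toMulEquiv.isDomain
  haveI : IsIntegrallyClosed (Localization.AtPrime (q.comap (algebraMap A B))) := IsIntegrallyClosed.of_equiv e.symm
  obtain ⟨h1, h2⟩ := (GeomProp.normal_iff_of_smooth A B q).2 ⟨inferInstance, inferInstance⟩
  haveI : IsDomain (X.presheaf.stalk x) := eX.toMulEquiv.isDomain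
  haveI : IsIntegrallyClosed (X.presheaf.stalk x) := IsIntegrallyClosed.of_equiv eX.symm
  exact Groth.Agent.S9812.result _

/-- An irreducible generic fibre forces a flat scheme over a domain to be irreducible. -/
theorem irreducibleSpace_of_flat {R : Type u} [CommRing R] [IsDomain R] (X : Over (Spec (CommRingCat.of R)))
    [Flat X.hom] [IrreducibleSpace ((Neron.genericFibre R).obj X).left] :
    IrreducibleSpace X.left ∧ DenseRange (pullback.fst X.hom (Neron.genPt R)) := by
  let p := pullback.fst X.hom (Neron.genPt R)
  haveI := NeronGen.schDom_genericFibre_fst R X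
  have hd : DenseRange p := IsDominant.denseRange (f := p)
  refine ⟨?_, hd⟩
  have h : IsIrreducible (Set.univ : Set X.left) := by
    rw [← hd.closure_range, ← Set.image_univ]
    haveI : IrreducibleSpace ↥(pullback X.hom (Neron.genPt R)) :=
      ‹IrreducibleSpace ((Neron.genericFibre R).obj X).left›
    exact ((IrreducibleSpace.isIrreducible_univ _).image _ p.continuous.continuousOn).closure
  exact { isPreirreducible_univ := h.2, toNonempty := ⟨h.1.choose⟩ }

variable {R : Type u} [CommRing R] [IsDedekindDomain R] {A B : Over (Spec (CommRingCat.of R))}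
  (φ : A ⟶ B)

/-- A quasi-finite morphism of smooth schemes with irreducible generic fibres and surjective generic fibre is
universally open. -/
theorem universallyOpen_of_lqf [Smooth A.hom] [Smooth B.hom]
    [IrreducibleSpace ((Neron.genericFibre R).obj A).left]
    [IrreducibleSpace ((Neron.genericFibre R).obj B).left]
    [Surjective ((Neron.genericFibre R).map φ).left] [LocallyQuasiFinite φ.left] :
    UniversallyOpen φ.left := by
  haveI : IsLocallyNoetherian B.left := LocallyOfFiniteType.isLocallyNoetherian B.hom
  haveI : LocallyOfFiniteType (φ.left ≫ B.hom) := by rw [Over.w]; infer_instance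
  haveI : LocallyOfFiniteType φ.left := locallyOfFiniteType_of_comp _ B.hom
  obtain ⟨hA, -⟩ := irreducibleSpace_of_flat A
  obtain ⟨hB, hdB⟩ := irreducibleSpace_of_flat B
  have hd : DenseRange φ.left := by
    have h1 : DenseRange ((pullback.fst B.hom (Neron.genPt R)) ∘ ((Neron.genericFibre R).map φ).left) :=
      hdB.comp ((Neron.genericFibre R).map φ).left.surjective.denseRange
        (pullback.fst B.hom (Neron.genPt R)).continuous
    refine h1.mono ?_
    rintro _ ⟨z, rfl⟩
    refine ⟨pullback.fst A.hom (Neron.genPt R) z, ?_⟩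
    change _ = (pullback.fst B.hom (Neron.genPt R)) (((Neron.genericFibre R).map φ).left z)
    refine (Scheme.Hom.comp_apply _ _ _).symm.trans ((congrArg (fun h : _ ⟶ B.left => h z)
      (pullback.lift_fst _ _ _).symm).trans (Scheme.Hom.comp_apply _ _ _))
  refine Groth.Agent.S1454.result φ.left (fun y => isGeomUnibranch_of_smooth B.hom y) fun Z hZ x hx => ?_
  refine ⟨Set.univ, by rw [irreducibleComponents_eq_singleton]; rfl, ?_⟩
  rw [irreducibleComponents_eq_singleton] at hZ
  rw [Set.mem_singleton_iff] at hZ
  subst hZ
  have := (hx.image φ.left.continuous)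
  rwa [Set.image_univ, hd.closure_range] at this

variable [GrpObj A] [GrpObj B] [IsMonHom φ]

/-- A quasi-finite homomorphism of smooth groups with surjective generic fibre is flat. -/
theorem flat_of_lqf [Smooth A.hom] [QuasiCompact A.hom] [Smooth B.hom] [QuasiSeparated B.hom]
    [IrreducibleSpace ((Neron.genericFibre R).obj A).left]
    [IrreducibleSpace ((Neron.genericFibre R).obj B).left]
    [Surjective ((Neron.genericFibre R).map φ).left] [LocallyQuasiFinite φ.left] :
    Flat φ.left := by
  haveI : IsLocallyNoetherian A.left := LocallyOfFiniteType.isLocallyNoetherian A.hom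
  haveI : IsLocallyNoetherian B.left := LocallyOfFiniteType.isLocallyNoetherian B.hom
  haveI : LocallyOfFiniteType (φ.left ≫ B.hom) := by rw [Over.w]; infer_instance
  haveI : QuasiCompact (φ.left ≫ B.hom) := by rw [Over.w]; infer_instance
  haveI : Flat (φ.left ≫ B.hom) := by rw [Over.w]; infer_instance
  haveI : LocallyOfFiniteType φ.left := locallyOfFiniteType_of_comp _ B.hom
  haveI : QuasiCompact φ.left := QuasiCompact.of_comp _ B.hom
  haveI := universallyOpen_of_lqf φ
  refine FibreFlat.flat_of_fibres φ.left B.hom fun L _ b => ?_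
  let F := Over.pullback b
  let f := F.map φ
  have sq : IsPullback (pullback.fst A.hom b) f.left φ.left (pullback.fst B.hom b) := by
    refine IsPullback.of_bot ?_ (pullback.lift_fst _ _ _).symm (IsPullback.of_hasPullback B.hom b)
    rw [show f.left ≫ pullback.snd B.hom b = pullback.snd A.hom b from pullback.lift_snd _ _ _, Over.w φ]
    exact IsPullback.of_hasPullback A.hom b
  suffices hf : Flat f.left by
    let sq' := FibreFlat.isPullback_fibMap φ.left B.hom b
    rw [← sq'.isoPullback_hom_snd]
    have : Flat (pullback.snd φ.left (pullback.fst B.hom b)) := by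
      rw [← sq.isoPullback_inv_snd]; infer_instance
    infer_instance
  haveI : UniversallyOpen f.left := MorphismProperty.of_isPullback sq ‹_›
  haveI : LocallyOfFiniteType f.left := MorphismProperty.of_isPullback sq ‹_›
  haveI : QuasiCompact f.left := MorphismProperty.of_isPullback sq ‹_›
  haveI : Smooth (F.obj A).hom := inferInstanceAs (Smooth (pullback.snd A.hom b))
  haveI : Smooth (F.obj B).hom := inferInstanceAs (Smooth (pullback.snd B.hom b))
  haveI : IsReduced (F.obj B).left := SmoothRed.isReduced_of_smooth_scheme (F.obj B).hom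
  haveI : IsLocallyNoetherian (F.obj B).left := LocallyOfFiniteType.isLocallyNoetherian (F.obj B).hom
  obtain ⟨U, hU, hfl, -⟩ := GenFree.exists_dense_flat_fp f.left
  obtain ⟨y, hyU, z, rfl⟩ := hU.exists_mem_open f.left.isOpenMap.isOpen_range
    ⟨f.left ((1 : 𝟙_ _ ⟶ F.obj A).left (IsLocalRing.closedPoint L)), _, rfl⟩
  haveI := hfl
  refine GrpField.flat_of_flat_stalkMap f (x := z) ?_
  have h1 := Flat.stalkMap (f.left ∣_ U) (⟨z, hyU⟩ : f.left ⁻¹ᵁ U)
  exact (RingHom.Flat.respectsIso.arrow_mk_iso_iff
    (morphismRestrictStalkMap f.left U ⟨z, hyU⟩)).1 h1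


/-- The kernel of a homomorphism. -/
theorem exists_kernel : ∃ (N : Over (Spec (CommRingCat.of R))) (_ : GrpObj N) (i : N ⟶ A),
    IsMonHom i ∧ AlgGrp.IsKernel i φ := by
  obtain ⟨N, hN, i, hi, -, hsq, -⟩ := AgIsog.exists_kernel φ
  refine ⟨N, hN, i, hi, IsPullback.of_map (Over.forget _) ?_ hsq⟩
  ext1
  exact hsq.w

omit [GrpObj A] [IsMonHom φ] in
/-- Kernels are preserved by passing to the generic fibre. -/
theorem isKernel_genericFibre {N : Over (Spec (CommRingCat.of R))} {i : N ⟶ A} (hN : AlgGrp.IsKernel i φ) :
    open scoped CategoryTheory.Obj in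
    AlgGrp.IsKernel ((Neron.genericFibre R).map i) ((Neron.genericFibre R).map φ) := by
  open scoped CategoryTheory.Obj in
  let F := Neron.genericFibre R
  letI : F.Monoidal := inferInstanceAs (Over.pullback (Neron.genPt R)).Monoidal
  let e := Functor.Monoidal.εIso F
  refine (hN.map F).of_iso (Iso.refl _) (Iso.refl _) e.symm (Iso.refl _) (by simp [F])
    (toUnit_unique _ _) (by simp [F]) ?_
  change F.map η[B] ≫ 𝟙 _ = e.inv ≫ Functor.LaxMonoidal.ε F ≫ F.map η[B]
  rw [Category.comp_id, ← Category.assoc]
  refine ((congrArg (fun t => t ≫ F.map η[B]) (?_ : e.inv ≫ Functor.LaxMonoidal.ε F = 𝟙 _)).trans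
    (Category.id_comp _)).symm
  exact e.inv_hom_id

open scoped CategoryTheory.Obj in
/-- A flat homomorphism with finite kernel on the generic fibre is locally quasi-finite. -/
theorem lqf_of_flat [LocallyOfFiniteType A.hom] [Flat φ.left]
    (hfin : ∀ (N : Over (Spec (CommRingCat.of (FractionRing R)))) (j : N ⟶ (Neron.genericFibre R).obj A),
      AlgGrp.IsKernel j ((Neron.genericFibre R).map φ) → IsFinite N.hom) :
    LocallyQuasiFinite φ.left := by
  obtain ⟨N, _, i, hi, hN⟩ := exists_kernel φ
  haveI := hi
  haveI : LocallyOfFiniteType (φ.left ≫ B.hom) := by rw [Over.w]; infer_instance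
  haveI : LocallyOfFiniteType φ.left := locallyOfFiniteType_of_comp _ B.hom
  haveI : Flat N.hom := UnitUnram.kernel_hom φ i @Flat hN inferInstance
  haveI := hfin _ _ (isKernel_genericFibre φ hN)
  haveI : LocallyQuasiFinite (pullback.snd N.hom
      (Spec.map (CommRingCat.ofHom (algebraMap R (FractionRing R))))) :=
    inferInstanceAs (LocallyQuasiFinite ((Neron.genericFibre R).obj N).hom)
  exact (UnitUnram.lqf_iff_kernel φ i hN).2 (locallyQuasiFinite_of_flat N.hom)



omit φ in
/-- The generic fibre is irreducible when it is geometrically integral. -/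
theorem irreducibleSpace_genericFibre [GeometricallyIntegral ((Neron.genericFibre R).obj A).hom] :
    IrreducibleSpace ((Neron.genericFibre R).obj A).left :=
  GeometricallyIrreducible.irreducibleSpace_of_subsingleton ((Neron.genericFibre R).obj A).hom

open scoped CategoryTheory.Obj in
/-- For a homomorphism of Néron models of abelian varieties with an isogeny as generic fibre, flat means
locally quasi-finite. -/
theorem lqf_iff_flat [Smooth A.hom] [QuasiCompact A.hom] [Smooth B.hom] [IsSeparated B.hom]
    [GeometricallyIntegral ((Neron.genericFibre R).obj A).hom]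
    [GeometricallyIntegral ((Neron.genericFibre R).obj B).hom]
    (hφ : SGA7.IsIsogenyOver ((Neron.genericFibre R).map φ)) :
    LocallyQuasiFinite φ.left ↔ Flat φ.left := by
  haveI := irreducibleSpace_genericFibre (A := A)
  haveI := irreducibleSpace_genericFibre (A := B)
  haveI := hφ.1
  exact ⟨fun _ => flat_of_lqf φ, fun _ => lqf_of_flat φ hφ.2⟩


end Groth.Agent.NeronIsog
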