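import Groth.Agent.NeronSS.Pow
import Groth.Agent.NeronIsog.Basic
import Groth.Agent.AgIsog.Factor
import Groth.Agent.EtaleSections.Finite
import Groth.Agent.FibCrit.Props
import Groth.Agent.S4077

/-!
# Dual homomorphisms of isogenies of Néron models
-/

set_option autoImplicit false
set_option backward.isDefEq.respectTransparency false
set_option backward.isDefEq.respectTransparency.types false
set_option linter.style.haveILetI false
set_option linter.unusedSectionVars false
set_option synthInstance.maxHeartbeats 400000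
set_option maxHeartbeats 1000000
universe u

open CategoryTheory CategoryTheory.Limits MonoidalCategory CartesianMonoidalCategory MonObj AlgebraicGeometry
open scoped CategoryTheory.Obj

namespace Groth.Agent.NeronIsog

variable {R : Type u} [CommRing R] [IsDedekindDomain R]

/-- An isogeny of abelian varieties extends to Néron models with a dual: composed they give multiplication by the
degree. -/
theorem exists_dual {A B : Over (Spec (CommRingCat.of R))} [GrpObj A] [GrpObj B]
    (hA : Neron.IsNeronModelOf R A ((Neron.genericFibre R).obj A) (Iso.refl _))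
    (hB : Neron.IsNeronModelOf R B ((Neron.genericFibre R).obj B) (Iso.refl _))
    [IsProper ((Neron.genericFibre R).obj A).hom] [GeometricallyIntegral ((Neron.genericFibre R).obj A).hom]
    [IsProper ((Neron.genericFibre R).obj B).hom] [GeometricallyIntegral ((Neron.genericFibre R).obj B).hom]
    (φ : A ⟶ B) [IsMonHom φ] (hφ : SGA7.IsIsogenyOver ((Neron.genericFibre R).map φ))
    {N : Over (Spec (CommRingCat.of R))} {i : N ⟶ A} (hN : AlgGrp.IsKernel i φ)
    (x : ↥(Spec (CommRingCat.of (FractionRing R)))) :
    0 < ((Neron.genericFibre R).obj N).hom.finrank x ∧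
      ∃ ψ : B ⟶ A, φ ≫ ψ = 𝟙 A ^ ((Neron.genericFibre R).obj N).hom.finrank x := by
  obtain ⟨hAs, hAsep, -, -, hAbij⟩ := hA
  haveI := hAs; haveI := hAsep
  let K := FractionRing R
  let F := Over.pullback (Neron.genPt R)
  let AK := F.obj A
  let BK := F.obj B
  let φK : AK ⟶ BK := F.map φ
  haveI : IsProper AK.hom := ‹IsProper ((Neron.genericFibre R).obj A).hom›
  haveI : GeometricallyIntegral AK.hom := ‹GeometricallyIntegral ((Neron.genericFibre R).obj A).hom›
  haveI : IsProper BK.hom := ‹IsProper ((Neron.genericFibre R).obj B).hom›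
  haveI : GeometricallyIntegral BK.hom := ‹GeometricallyIntegral ((Neron.genericFibre R).obj B).hom›
  haveI : IsCommMonObj AK := isCommMonObj_of_isProper_of_geometricallyIntegral AK
  haveI := AVDeg.isIntegral_av BK
  haveI : IsProper (φK.left ≫ BK.hom) := by rw [Over.w]; infer_instance
  haveI : IsProper φK.left := IsProper.of_comp φK.left BK.hom
  haveI : Surjective φK.left := hφ.1
  have hk : AlgGrp.IsKernel (F.map i) φK := NeronSS.isKernel_map (Neron.genPt R) hN
  haveI : IsFinite (F.obj N).hom := hφ.2 _ _ hk
  haveI : LocallyQuasiFinite φK.left := by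
    obtain ⟨M, hM, j, hj, -, hsq, -⟩ := AgIsog.exists_kernel φK
    have hkM : AlgGrp.IsKernel j φK := IsPullback.of_map (Over.forget _) (by ext1; exact hsq.w) hsq
    haveI := hj
    haveI : IsFinite M.hom := hφ.2 _ _ hkM
    exact (UnitUnram.lqf_iff_kernel φK j hkM).2 inferInstance
  haveI : IsFinite φK.left := IsFinite.of_isProper_of_locallyQuasiFinite _
  haveI : Flat φK.left := GrpField.flat_of_surjective_reduced φK
  haveI : IsLocallyNoetherian BK.left := LocallyOfFiniteType.isLocallyNoetherian BK.hom
  haveI : LocallyOfFinitePresentation φK.left := LocallyOfFinitePresentation.iff_locallyOfFiniteType.2 inferInstance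
  have sq : IsPullback (F.map i).left (F.obj N).hom φK.left (η[BK] : 𝟙_ _ ⟶ BK).left := hk.map (Over.forget _)
  have hrank : ∀ s : ↥(Spec (CommRingCat.of K)),
      φK.left.finrank (η[BK].left s) = (F.obj N).hom.finrank x := fun s => by
    rw [Subsingleton.elim (α := PrimeSpectrum K) s x]
    exact (Scheme.Hom.finrank_of_isPullback _ _ φK.left _ sq x).symm
  let n := (F.obj N).hom.finrank x
  refine ⟨?_, ?_⟩
  · show 0 < n
    have h1 := Scheme.Hom.one_le_finrank_map φK.left (η[AK].left x)
    rw [← Scheme.Hom.comp_apply, ← Over.comp_left, IsMonHom.one_hom] at h1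
    exact lt_of_lt_of_le Nat.zero_lt_one (h1.trans (hrank x).le)
  haveI : IsMonHom (𝟙 AK ^ n) := NeronSS.isMonHom_id_pow AK n
  obtain ⟨g, hg⟩ := AgIsog.exists_factor φK (𝟙 AK ^ n) (fun T y hy => by
    rw [MonObj.comp_pow, Category.comp_id]
    exact AgIsog.pow_eq_one φK n hrank y hy)
  obtain ⟨hBs, -⟩ := hB
  obtain ⟨ψ, hψ⟩ := (hAbij B hBs).2 g
  simp only [Iso.refl_hom, Category.comp_id] at hψ
  refine ⟨ψ, NeronGen.ext R _ _ ?_⟩
  show F.map (φ ≫ ψ) = F.map (𝟙 A ^ n)
  rw [Functor.map_comp, NeronSS.map_id_pow]
  exact (congrArg (φK ≫ ·) hψ).trans hg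

/-- Multiplication by `n` is quasi-finite if, at each point, `n` is invertible or there is no additive subgroup. -/
theorem lqf_pow {G : Over (Spec (CommRingCat.of R))} [GrpObj G] [IsCommMonObj G] [Smooth G.hom]
    [IsSeparated G.hom] [QuasiCompact G.hom] [IsProper ((Neron.genericFibre R).obj G).hom]
    [GeometricallyIntegral ((Neron.genericFibre R).obj G).hom] {n : ℕ} (hn : n ≠ 0)
    (h : ∀ s : ↥(Spec (CommRingCat.of R)),
      (n : (Spec (CommRingCat.of R)).residueField s) ≠ 0 ∨ SGA7.FibreUnipotentRankZero s G) :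
    LocallyQuasiFinite ((𝟙 G : G ⟶ G) ^ n).left := by
  let S := Spec (CommRingCat.of R)
  let K := FractionRing R
  let u := (𝟙 G : G ⟶ G) ^ n
  haveI : IsMonHom u := NeronSS.isMonHom_id_pow G n
  haveI : IsProper ((SGA7.genFib R K).obj G).hom := ‹IsProper ((Neron.genericFibre R).obj G).hom›
  haveI : GeometricallyIntegral ((SGA7.genFib R K).obj G).hom :=
    ‹GeometricallyIntegral ((Neron.genericFibre R).obj G).hom›
  haveI : LocallyOfFiniteType (u.left ≫ G.hom) := by rw [Over.w]; infer_instance
  haveI : LocallyOfFiniteType u.left := locallyOfFiniteType_of_comp _ G.hom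
  haveI : QuasiCompact (u.left ≫ G.hom) := by rw [Over.w]; infer_instance
  haveI : QuasiCompact u.left := QuasiCompact.of_comp _ G.hom
  refine (GrpField.locallyQuasiFinite_iff_fibHom u).2 fun s => ?_
  rcases h s with h | h
  · let F := GrpField.fib G s
    letI : GrpObj F := GrpField.fibGrp G s
    haveI : LocallyOfFiniteType F.hom := inferInstanceAs (LocallyOfFiniteType (pullback.snd G.hom _))
    haveI : IsCommMonObj F := inferInstanceAs (IsCommMonObj ((Over.pullback _).obj G))
    haveI : Etale ((𝟙 F) ^ (n : ℤ)).left := FieldPow.etale_pow F (by rwa [Int.cast_natCast])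
    rw [show GrpField.fibHom u s = 𝟙 F ^ (n : ℤ) from (NeronSS.map_id_pow _ G n).trans (zpow_natCast _ n).symm]
    exact EtaleSections.locallyQuasiFinite_of_unramified _
  · exact NeronSS.lqf_fibHom u (NeronSS.genPoint_specializes R K s) h (NeronSS.isogeny_genPoint (K := K) hn).2

/-- Multiplication by `n` is unramified when `n` is invertible in the base. -/
theorem formallyUnramified_pow {G : Over (Spec (CommRingCat.of R))} [GrpObj G] [IsCommMonObj G]
    [LocallyOfFiniteType G.hom] {n : ℕ} (hn : IsUnit (n : R)) : FormallyUnramified ((𝟙 G : G ⟶ G) ^ n).left := by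
  let u := (𝟙 G : G ⟶ G) ^ n
  haveI : IsMonHom u := NeronSS.isMonHom_id_pow G n
  haveI : LocallyOfFiniteType (u.left ≫ G.hom) := by rw [Over.w]; infer_instance
  haveI : LocallyOfFiniteType u.left := locallyOfFiniteType_of_comp _ G.hom
  obtain ⟨N, hN, i, hi, -, hsq, -⟩ := AgIsog.exists_kernel u
  have hk : AlgGrp.IsKernel i u := IsPullback.of_map (Over.forget _) (by ext1; exact hsq.w) hsq
  refine (UnitUnram.formallyUnramified_iff_kernel u i hk).2 ?_
  haveI : LocallyOfFiniteType N.hom := UnitUnram.kernel_hom u i @LocallyOfFiniteType hk inferInstance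
  refine FibCrit.formallyUnramified_of_fiberToSpecResidueField N.hom fun s => ?_
  suffices hu : FormallyUnramified (GrpField.fibHom u s).left from
    UnitUnram.kernel_hom (GrpField.fibHom u s) ((Over.pullback _).map i) @FormallyUnramified
      (NeronSS.isKernel_map _ hk) hu
  let F := GrpField.fib G s
  letI : GrpObj F := GrpField.fibGrp G s
  haveI : LocallyOfFiniteType F.hom := inferInstanceAs (LocallyOfFiniteType (pullback.snd G.hom _))
  haveI : IsCommMonObj F := inferInstanceAs (IsCommMonObj ((Over.pullback _).obj G))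
  have h : (n : (Spec (CommRingCat.of R)).residueField s) ≠ 0 := fun h0 =>
    s.isPrime.ne_top (Ideal.eq_top_of_isUnit_mem _ ((NeronSS.natCast_residueField_eq_zero_iff s n).1 h0) hn)
  haveI : Etale ((𝟙 F) ^ (n : ℤ)).left := FieldPow.etale_pow F (by rwa [Int.cast_natCast])
  rw [show GrpField.fibHom u s = 𝟙 F ^ (n : ℤ) from (NeronSS.map_id_pow _ G n).trans (zpow_natCast _ n).symm]
  infer_instance

omit [IsDedekindDomain R] in
/-- The two notions of Néron model agree. -/
theorem isNeron_of_isNeronModelOf [IsDomain R] {N : Over (Spec (CommRingCat.of R))}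
    (hN : Neron.IsNeronModelOf R N ((Neron.genericFibre R).obj N) (Iso.refl _)) :
    SGA7.IsNeron R (FractionRing R) N := by
  obtain ⟨h1, h2, -, h4, h5⟩ := hN
  refine ⟨h1, h2, h4, fun Y hY => ?_⟩
  have := h5 Y hY
  simp only [Iso.refl_hom, Category.comp_id] at this
  exact this

end Groth.Agent.NeronIsog
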