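import Groth.Agent.FlatBlowUp.FlatFibre
import Mathlib.AlgebraicGeometry.Morphisms.QuasiFinite
import Mathlib.AlgebraicGeometry.Morphisms.Flat
import Mathlib.AlgebraicGeometry.Pullbacks

/-!
# Flat schemes over a domain with quasi-finite generic fibre
-/

set_option autoImplicit false
set_option backward.isDefEq.respectTransparency false
set_option backward.isDefEq.respectTransparency.types false
set_option linter.style.haveILetI false
universe u

open CategoryTheory CategoryTheory.Limits AlgebraicGeometry TensorProduct

namespace Groth.Agent.NeronIsog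

/-- A flat algebra over a domain with quasi-finite generic fibre is quasi-finite. -/
theorem quasiFinite_of_flat {R A : Type u} [CommRing R] [IsDomain R] [CommRing A] [Algebra R A]
    [Module.Flat R A] [Algebra.QuasiFinite (FractionRing R) (FractionRing R ⊗[R] A)] :
    Algebra.QuasiFinite R A := by
  let K := FractionRing R
  let q : Ideal R := ⊥
  haveI : q.IsPrime := Ideal.bot_prime
  haveI : Module.Finite K (K ⊗[R] A) := Module.Finite.of_quasiFinite
  have hinj : Function.Injective (algebraMap R q.ResidueField) :=
    (injective_iff_map_eq_zero _).2 fun x hx => by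
      rwa [Ideal.algebraMap_residueField_eq_zero, Ideal.mem_bot] at hx
  letI : Algebra K q.ResidueField := (IsFractionRing.lift hinj).toAlgebra
  haveI : IsScalarTower R K q.ResidueField :=
    IsScalarTower.of_algebraMap_eq fun r => (IsFractionRing.lift_algebraMap hinj r).symm
  haveI : Module.Finite q.ResidueField (q.ResidueField ⊗[K] (K ⊗[R] A)) := inferInstance
  haveI : Module.Finite q.ResidueField (q.Fiber A) :=
    Module.Finite.equiv (TensorProduct.AlgebraTensorModule.cancelBaseChange R K q.ResidueField q.ResidueField A)
  exact ⟨fun P _ => Groth.Agent.FlatBlowUp.finite_fiber_of_le (q := q) (P := P) bot_le⟩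

/-- A flat scheme over a domain with locally quasi-finite generic fibre is locally quasi-finite. -/
theorem locallyQuasiFinite_of_flat {R : Type u} [CommRing R] [IsDomain R] {X : Scheme.{u}}
    (f : X ⟶ Spec (CommRingCat.of R)) [Flat f]
    [LocallyQuasiFinite
      (pullback.snd f (Spec.map (CommRingCat.ofHom (algebraMap R (FractionRing R)))))] :
    LocallyQuasiFinite f := by
  let g := Spec.map (CommRingCat.ofHom (algebraMap R (FractionRing R)))
  suffices H : ∀ (A : CommRingCat.{u}) (j : Spec A ⟶ X), IsOpenImmersion j → LocallyQuasiFinite (j ≫ f) by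
    refine IsZariskiLocalAtSource.of_openCover X.affineCover fun i => ?_
    haveI := H _ ((X.affineCover.X i).isoSpec.inv ≫ X.affineCover.f i) inferInstance
    rw [show X.affineCover.f i ≫ f =
      (X.affineCover.X i).isoSpec.hom ≫ ((X.affineCover.X i).isoSpec.inv ≫ X.affineCover.f i) ≫ f by simp]
    infer_instance
  intro A j hj
  haveI := hj
  obtain ⟨φ, hφ⟩ := Spec.map_surjective (j ≫ f)
  haveI hfl : Flat (Spec.map φ) := hφ ▸ inferInstance
  haveI hq : LocallyQuasiFinite (pullback.snd (Spec.map φ) g) := by
    let m := pullback.map (Spec.map φ) g f g j (𝟙 _) (𝟙 _)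
      (by rw [hφ, Category.comp_id]) (by rw [Category.id_comp, Category.comp_id])
    haveI : IsOpenImmersion m := inferInstance
    have : m ≫ pullback.snd f g = pullback.snd (Spec.map φ) g := by simp [m]
    rw [← this]
    infer_instance
  rw [← hφ, HasRingHomProperty.Spec_iff (P := @LocallyQuasiFinite)]
  algebraize [φ.hom]
  haveI : Module.Flat R A := (HasRingHomProperty.Spec_iff (P := @Flat)).1 hfl
  let K := FractionRing R
  have h1 : LocallyQuasiFinite (pullback.fst g (Spec.map φ)) := by
    rw [← pullbackSymmetry_hom_comp_snd]
    infer_instance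
  haveI : Algebra.QuasiFinite K (K ⊗[R] A) := by
    have h2 : LocallyQuasiFinite ((pullbackSpecIso R K A).inv ≫ pullback.fst g (Spec.map φ)) := inferInstance
    rw [show (pullbackSpecIso R K A).inv ≫ pullback.fst g (Spec.map φ) =
      Spec.map (CommRingCat.ofHom Algebra.TensorProduct.includeLeftRingHom) from pullbackSpecIso_inv_fst R K A,
      HasRingHomProperty.Spec_iff (P := @LocallyQuasiFinite)] at h2
    exact RingHom.quasiFinite_algebraMap.mp h2
  exact quasiFinite_of_flat

end Groth.Agent.NeronIsog
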