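import Groth.Agent.NeronIsog.Basic
import Groth.Agent.GrpComp.Identity

/-!
# Flatness of homomorphisms of smooth groups read on identity components of fibres
-/

set_option autoImplicit false
set_option backward.isDefEq.respectTransparency false
set_option backward.isDefEq.respectTransparency.types false
set_option linter.style.haveILetI false
set_option synthInstance.maxHeartbeats 400000
set_option maxHeartbeats 1000000
universe u

open CategoryTheory CategoryTheory.Limits MonoidalCategory CartesianMonoidalCategory MonObj AlgebraicGeometry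

namespace Groth.Agent.NeronIsog

open scoped CategoryTheory.Obj in
/-- A homomorphism of smooth groups over any base is flat if on every fibre its image contains a nonempty
open subset. -/
theorem flat_of_range_open {S : Scheme.{u}} [IsLocallyNoetherian S] {A B : Over S} [GrpObj A] [GrpObj B]
    (φ : A ⟶ B) [IsMonHom φ] [Smooth A.hom] [QuasiCompact A.hom] [Smooth B.hom] [QuasiSeparated B.hom]
    (h : ∀ s : S, ∃ W : Set B.left, IsOpen W ∧ (∃ y ∈ W, B.hom y = s) ∧
      ∀ y ∈ W, B.hom y = s → y ∈ Set.range φ.left) : Flat φ.left := by
  haveI : IsLocallyNoetherian A.left := LocallyOfFiniteType.isLocallyNoetherian A.hom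
  haveI : IsLocallyNoetherian B.left := LocallyOfFiniteType.isLocallyNoetherian B.hom
  haveI : LocallyOfFiniteType (φ.left ≫ B.hom) := by rw [Over.w]; infer_instance
  haveI : QuasiCompact (φ.left ≫ B.hom) := by rw [Over.w]; infer_instance
  haveI : Flat (φ.left ≫ B.hom) := by rw [Over.w]; infer_instance
  haveI : LocallyOfFiniteType φ.left := locallyOfFiniteType_of_comp _ B.hom
  haveI : QuasiCompact φ.left := QuasiCompact.of_comp _ B.hom
  refine FibreFlat.flat_of_fibres φ.left B.hom fun L _ b => ?_
  let F := Over.pullback b
  let f := F.map φ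
  have sq : IsPullback (pullback.fst A.hom b) f.left φ.left (pullback.fst B.hom b) := by
    refine IsPullback.of_bot ?_ (pullback.lift_fst _ _ _).symm (IsPullback.of_hasPullback B.hom b)
    rw [show f.left ≫ pullback.snd B.hom b = pullback.snd A.hom b from pullback.lift_snd _ _ _, Over.w φ]
    exact IsPullback.of_hasPullback A.hom b
  suffices hf : Flat f.left by
    rw [← (FibreFlat.isPullback_fibMap φ.left B.hom b).isoPullback_hom_snd]
    have : Flat (pullback.snd φ.left (pullback.fst B.hom b)) := by
      rw [← sq.isoPullback_inv_snd]; infer_instance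
    infer_instance
  haveI : LocallyOfFiniteType f.left := MorphismProperty.of_isPullback sq ‹_›
  haveI : QuasiCompact f.left := MorphismProperty.of_isPullback sq ‹_›
  haveI : Smooth (F.obj A).hom := inferInstanceAs (Smooth (pullback.snd A.hom b))
  haveI : Smooth (F.obj B).hom := inferInstanceAs (Smooth (pullback.snd B.hom b))
  haveI : IsReduced (F.obj B).left := SmoothRed.isReduced_of_smooth_scheme (F.obj B).hom
  haveI : IsLocallyNoetherian (F.obj B).left := LocallyOfFiniteType.isLocallyNoetherian (F.obj B).hom
  let pt : ↥(Spec (CommRingCat.of L)) := IsLocalRing.closedPoint L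
  obtain ⟨W, hW, ⟨y₀, hy₀, hy₀s⟩, hWr⟩ := h (b pt)
  let pr := pullback.fst B.hom b
  obtain ⟨w₀, hw₀, -⟩ := Scheme.Pullback.exists_preimage_pullback (f := B.hom) (g := b) y₀ pt hy₀s
  obtain ⟨U, hU, hfl, -⟩ := GenFree.exists_dense_flat_fp f.left
  obtain ⟨y, hyU, hyW⟩ := hU.exists_mem_open (hW.preimage pr.continuous)
    ⟨w₀, show pr w₀ ∈ W from hw₀.symm ▸ hy₀⟩
  obtain ⟨a, ha⟩ := hWr (pr y) hyW (by
    rw [← Scheme.Hom.comp_apply, pullback.condition, Scheme.Hom.comp_apply]
    exact congrArg b (Subsingleton.elim (α := PrimeSpectrum L) _ _))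
  obtain ⟨q, -, hq⟩ := Scheme.Pullback.exists_preimage_pullback (f := φ.left) (g := pr) a y ha
  have hz : f.left (sq.isoPullback.inv q) = y := by
    refine (Scheme.Hom.comp_apply _ _ _).symm.trans ?_
    rw [sq.isoPullback_inv_snd]
    exact hq
  haveI := hfl
  have hzU : sq.isoPullback.inv q ∈ f.left ⁻¹ᵁ U := show f.left _ ∈ U from hz.symm ▸ hyU
  refine GrpField.flat_of_flat_stalkMap f (x := sq.isoPullback.inv q) ?_
  have h1 := Flat.stalkMap (f.left ∣_ U) (⟨_, hzU⟩ : f.left ⁻¹ᵁ U)
  exact (RingHom.Flat.respectsIso.arrow_mk_iso_iff
    (morphismRestrictStalkMap f.left U ⟨_, hzU⟩)).1 h1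

variable {k : Type u} [Field k]

/-- Connected components of a noetherian scheme are open. -/
theorem isOpen_component {X : Scheme.{u}} [IsNoetherian X] (x : X) : IsOpen (_root_.connectedComponent x) := by
  haveI : Finite (_root_.ConnectedComponents X) := by
    haveI := (TopologicalSpace.NoetherianSpace.finite_irreducibleComponents (α := X)).to_subtype
    refine Finite.of_surjective (fun Z : irreducibleComponents X => _root_.ConnectedComponents.mk Z.2.1.nonempty.some)
      fun c => ?_
    obtain ⟨x, rfl⟩ := _root_.ConnectedComponents.surjective_coe c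
    refine ⟨⟨irreducibleComponent x, irreducibleComponent_mem_irreducibleComponents x⟩, ?_⟩
    refine _root_.ConnectedComponents.coe_eq_coe'.mpr ?_
    exact isIrreducible_irreducibleComponent.isConnected.isPreconnected.subset_connectedComponent
      mem_irreducibleComponent (Set.Nonempty.some_mem _)
  rw [← connectedComponents_preimage_singleton]
  exact (isOpen_discrete _).preimage _root_.ConnectedComponents.continuous_coe

open scoped CategoryTheory.Obj in
/-- A flat homomorphism of algebraic groups over a field maps the identity component onto the identity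
component. -/
theorem image_component_of_flat {G H : Over (Spec (CommRingCat.of k))} [GrpObj G] [GrpObj H] (f : G ⟶ H)
    [IsMonHom f] [LocallyOfFiniteType G.hom] [QuasiCompact G.hom] [LocallyOfFiniteType H.hom]
    [QuasiSeparated H.hom] [Flat f.left] :
    f.left '' _root_.connectedComponent (η[G].left (IsLocalRing.closedPoint k)) =
      _root_.connectedComponent (η[H].left (IsLocalRing.closedPoint k)) := by
  have he : f.left (η[G].left (IsLocalRing.closedPoint k)) = η[H].left (IsLocalRing.closedPoint k) := by
    rw [← Scheme.Hom.comp_apply, ← Over.comp_left, IsMonHom.one_hom]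
  refine Set.Subset.antisymm ?_ ?_
  · exact he ▸ f.left.continuous.image_connectedComponent_subset _
  haveI : IsLocallyNoetherian G.left := LocallyOfFiniteType.isLocallyNoetherian G.hom
  haveI : IsLocallyNoetherian H.left := LocallyOfFiniteType.isLocallyNoetherian H.hom
  haveI : CompactSpace G.left := QuasiCompact.compactSpace_of_compactSpace G.hom
  haveI : IsNoetherian G.left := {}
  haveI : LocallyOfFiniteType (f.left ≫ H.hom) := by rw [Over.w]; infer_instance
  haveI : LocallyOfFiniteType f.left := locallyOfFiniteType_of_comp _ H.hom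
  haveI : LocallyOfFinitePresentation f.left := LocallyOfFinitePresentation.iff_locallyOfFiniteType.2 inferInstance
  haveI : UniversallyOpen f.left := UniversallyOpen.of_flat _
  obtain ⟨G₀, hG₀, c, hcm, hcc, -, hcr, -, -, -⟩ := GrpComp.exists_identity_subgroup G
  haveI := hcm; haveI := hcc
  haveI : QuasiCompact f.left := by
    haveI : QuasiCompact (f.left ≫ H.hom) := by rw [Over.w]; infer_instance
    exact QuasiCompact.of_comp _ H.hom
  haveI : LocallyOfFinitePresentation c.left :=
    LocallyOfFinitePresentation.iff_locallyOfFiniteType.2 inferInstance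
  haveI : LocallyOfFinitePresentation (c ≫ f).left :=
    inferInstanceAs (LocallyOfFinitePresentation (c.left ≫ f.left))
  haveI : QuasiCompact (c ≫ f).left := inferInstanceAs (QuasiCompact (c.left ≫ f.left))
  haveI : Nonempty ↥(Spec (CommRingCat.of k)) := ⟨IsLocalRing.closedPoint k⟩
  have hr : Set.range (c ≫ f).left = f.left '' _root_.connectedComponent (η[G].left (IsLocalRing.closedPoint k)) := by
    rw [Over.comp_left, ← Set.image_univ]
    show (fun z => (c.left ≫ f.left) z) '' _ = _
    simp only [Scheme.Hom.comp_apply]
    rw [← Set.image_image, Set.image_univ, hcr]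
    rfl
  have hc : IsClopen (f.left '' _root_.connectedComponent (η[G].left (IsLocalRing.closedPoint k))) :=
    ⟨hr ▸ GrpField.isClosed_range (c ≫ f), f.left.isOpenMap _ (isOpen_component _)⟩
  exact hc.connectedComponent_subset ⟨_, mem_connectedComponent, he⟩

end Groth.Agent.NeronIsog
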